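import Groth.Prelude.Def_EtBCD
import Groth.Agent.H11PBCSet.DegreeZeroSh
import Groth.Agent.H18Et.PushImmersion
import Groth.Agent.H18Et.StalkSets
import Groth.Agent.H15Site.EffDesc.Effective

/-!
# Étale sheaves of sets on a modification square
-/

set_option autoImplicit false
set_option linter.style.haveILetI false
set_option linter.unusedSectionVars false
set_option backward.isDefEq.respectTransparency false
set_option backward.isDefEq.respectTransparency.types false

universe u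

open CategoryTheory CategoryTheory.Limits AlgebraicGeometry Opposite
open scoped Groth.Agent.H18Et

namespace Groth.Agent.H15Site.ModSquare

open Groth.Agent.H18Et

section Abstract

variable {C D : Type*} [Category C] [Category D] {L₁ L₂ : C ⥤ D} {R₁ R₂ : D ⥤ C}

/-- Transposes along isomorphic right adjoints. -/
theorem homEquiv_symm_comp_iso (a₁ : L₁ ⊣ R₁) (a₂ : L₂ ⊣ R₂) (ρ : R₁ ≅ R₂) {H : C} {M : D}
    (y : H ⟶ R₁.obj M) :
    (a₂.homEquiv H M).symm (y ≫ ρ.hom.app M) =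
      (Adjunction.leftAdjointUniq a₂ (a₁.ofNatIsoRight ρ)).hom.app H ≫ (a₁.homEquiv H M).symm y := by
  apply (a₂.homEquiv H M).injective
  rw [Equiv.apply_symm_apply, Adjunction.homEquiv_naturality_right,
    Adjunction.homEquiv_leftAdjointUniq_hom_app]
  obtain ⟨z, rfl⟩ := (a₁.homEquiv H M).surjective y
  rw [Equiv.symm_apply_apply, Adjunction.homEquiv_unit]
  have h : (a₁.ofNatIsoRight ρ).unit.app H = a₁.unit.app H ≫ ρ.hom.app (L₁.obj H) := by
    rw [← Adjunction.homEquiv_id, ← Adjunction.homEquiv_id, Adjunction.homEquiv_ofNatIsoRight_apply]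
  rw [h, Category.assoc, Category.assoc, NatTrans.naturality]

theorem trans_symm_app {B B' : Type*} [Category B] [Category B'] (A₁ : C ⥤ B) (B₁ : B ⥤ D) (A₂ : C ⥤ B') (B₂ : B' ⥤ D)
    {Q : C ⥤ D} (φ : A₁ ⋙ B₁ ≅ Q) (ψ : A₂ ⋙ B₂ ≅ Q) (F : C) :
    (φ ≪≫ ψ.symm).hom.app F =
      @CategoryStruct.comp D _ (B₁.obj (A₁.obj F)) (Q.obj F) (B₂.obj (A₂.obj F))
        (@Iso.hom D _ (B₁.obj (A₁.obj F)) (Q.obj F) (φ.app F))
        (@Iso.inv D _ (B₂.obj (A₂.obj F)) (Q.obj F) (ψ.app F)) := rfl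

theorem square_trans_symm {A A' B B' M M' : C} (a : A ⟶ A') (m : M ⟶ M') (b : B ⟶ B') (e₁ : A ≅ M) (e₁' : A' ≅ M')
    (e₂ : B ≅ M) (e₂' : B' ≅ M') (h₁ : a ≫ e₁'.hom = e₁.hom ≫ m) (h₂ : b ≫ e₂'.hom = e₂.hom ≫ m) :
    a ≫ (e₁' ≪≫ e₂'.symm).hom = (e₁ ≪≫ e₂.symm).hom ≫ b := by
  simp only [Iso.trans_hom, Iso.symm_hom, Category.assoc]
  rw [← Category.assoc, h₁, Category.assoc]
  congr 1
  rw [Iso.eq_inv_comp, ← Category.assoc, ← h₂, Category.assoc, Iso.hom_inv_id, Category.comp_id]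

end Abstract

theorem bij_pull_iff {X Y : Scheme.{u}} {F G : EtDesc.Sh Y} (φ : F ⟶ G) (f : X ⟶ Y)
    {Ω : Type u} [Field Ω] [IsSepClosed Ω] (ξ : Spec (CommRingCat.of Ω) ⟶ X) :
    Function.Bijective ((Scheme.pointSmallEtale ξ).sheafFiber.map ((EtDesc.pullSh f).map φ)) ↔
      Function.Bijective ((Scheme.pointSmallEtale (ξ ≫ f)).sheafFiber.map φ) := by
  rw [← isIso_iff_bijective, ← isIso_iff_bijective]
  exact NatIso.isIso_map_iff (stalkPullShIso f ξ) φ

theorem bij_of_isIso {X : Scheme.{u}} {F G : EtDesc.Sh X} (φ : F ⟶ G) [IsIso φ]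
    {Ω : Type u} [Field Ω] [IsSepClosed Ω] (ξ : Spec (CommRingCat.of Ω) ⟶ X) :
    Function.Bijective ((Scheme.pointSmallEtale ξ).sheafFiber.map φ) :=
  (isIso_iff_bijective _).1 inferInstance

theorem stalk_subsingleton_iff {X Y : Scheme.{u}} (F : EtDesc.Sh Y) (f : X ⟶ Y)
    {Ω : Type u} [Field Ω] [IsSepClosed Ω] (ξ : Spec (CommRingCat.of Ω) ⟶ X) :
    Nonempty ((Scheme.pointSmallEtale ξ).sheafFiber.obj ((EtDesc.pullSh f).obj F) ≃
      (Scheme.pointSmallEtale (ξ ≫ f)).sheafFiber.obj F) :=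
  ⟨((stalkPullShIso f ξ).app F).toEquiv⟩

/-- The counit of a proper map is an isomorphism where the map is an isomorphism. -/
theorem isIso_map_counit {X X' U U' : Scheme.{u}} (f : X' ⟶ X) [IsProper f] (u : U ⟶ X)
    (f' : U' ⟶ U) [IsIso f'] (u' : U' ⟶ X') (h : IsPullback u' f' f u) (F : EtDesc.Sh X') :
    IsIso ((EtDesc.pullSh u').map ((EtDesc.adjSh f).counit.app F)) := by
  haveI := H11PBCSet.isIso_baseChange0Sh f u f' u' h F
  haveI := isIso_counitSh_of_liftsEtaleUniv (liftsEtaleUniv_of_isImmersion f') ((EtDesc.pullSh u').obj F)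
  let a₁ := (EtDesc.adjSh f).comp (EtDesc.adjSh u')
  let a₂ := (EtDesc.adjSh u).comp (EtDesc.adjSh f')
  let ρ : EtDesc.pushSh u' ⋙ EtDesc.pushSh f ≅ EtDesc.pushSh f' ⋙ EtDesc.pushSh u :=
    EtDesc.pushCompSh f u' ≪≫ EtBC.pushCongrSh h.w ≪≫ (EtDesc.pushCompSh u f').symm
  let y : (EtDesc.pushSh f).obj F ⟶ (EtDesc.pushSh u' ⋙ EtDesc.pushSh f).obj ((EtDesc.pullSh u').obj F) :=
    (EtDesc.pushSh f).map ((EtDesc.adjSh u').unit.app F)
  have key := homEquiv_symm_comp_iso a₁ a₂ ρ y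
  have hR : (a₁.homEquiv _ _).symm y = (EtDesc.pullSh u').map ((EtDesc.adjSh f).counit.app F) := by
    rw [Adjunction.comp_homEquiv]
    show ((EtDesc.adjSh u').homEquiv _ _).symm (((EtDesc.adjSh f).homEquiv _ _).symm
      ((EtDesc.pushSh f).map ((EtDesc.adjSh u').unit.app F))) = _
    rw [Adjunction.homEquiv_counit (EtDesc.adjSh f), Adjunction.counit_naturality,
      Adjunction.homEquiv_naturality_left_symm, Adjunction.homEquiv_counit]
    exact (congrArg ((EtDesc.pullSh u').map ((EtDesc.adjSh f).counit.app F) ≫ ·)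
      ((EtDesc.adjSh u').left_triangle_components F)).trans (Category.comp_id _)
  have hL : (a₂.homEquiv _ _).symm (y ≫ ρ.hom.app _) =
      (EtDesc.pullSh f').map (EtBC.baseChange0Sh f u f' u' h.w F) ≫
        (EtDesc.adjSh f').counit.app ((EtDesc.pullSh u').obj F) := by
    rw [Adjunction.comp_homEquiv]
    show ((EtDesc.adjSh f').homEquiv _ _).symm (((EtDesc.adjSh u).homEquiv _ _).symm (y ≫ ρ.hom.app _)) = _
    rw [Adjunction.homEquiv_counit (EtDesc.adjSh f')]
    rfl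
  rw [hR, hL] at key
  haveI := (inferInstance : IsIso ((EtDesc.pullSh f').map (EtBC.baseChange0Sh f u f' u' h.w F) ≫
        (EtDesc.adjSh f').counit.app ((EtDesc.pullSh u').obj F)))
  rw [key] at this
  exact IsIso.of_isIso_comp_left ((Adjunction.leftAdjointUniq a₂ (a₁.ofNatIsoRight ρ)).hom.app _) _

variable {X X' Z E U : Scheme.{u}} (f : X' ⟶ X) (i : Z ⟶ X) (j : E ⟶ X') (g : E ⟶ Z) (w : j ≫ f = g ≫ i)

theorem pullVia_naturality {T S Y : Scheme.{u}} (r : T ⟶ S) (a : S ⟶ Y) (b : T ⟶ Y) (h : r ≫ a = b)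
    {F G : EtDesc.Sh Y} (φ : F ⟶ G) :
    (EtDesc.pullSh r).map ((EtDesc.pullSh a).map φ) ≫ (EtDesc.pullVia r a b h G).hom =
      (EtDesc.pullVia r a b h F).hom ≫ (EtDesc.pullSh b).map φ :=
  ((EtDesc.pullCompSh r a).symm ≪≫ EtDesc.pullCongrSh h).hom.naturality φ

/-- The canonical isomorphism `j⁻¹ f⁻¹ ≅ g⁻¹ i⁻¹`. -/
noncomputable def θ (F : EtDesc.Sh X) :
    (EtDesc.pullSh j).obj ((EtDesc.pullSh f).obj F) ≅ (EtDesc.pullSh g).obj ((EtDesc.pullSh i).obj F) :=
  EtDesc.pullVia j f (j ≫ f) rfl F ≪≫ (EtDesc.pullVia g i (j ≫ f) w.symm F).symm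

theorem θ_naturality {F G : EtDesc.Sh X} (φ : F ⟶ G) :
    (EtDesc.pullSh j).map ((EtDesc.pullSh f).map φ) ≫ (θ f i j g w G).hom =
      (θ f i j g w F).hom ≫ (EtDesc.pullSh g).map ((EtDesc.pullSh i).map φ) :=
  square_trans_symm ((EtDesc.pullSh j).map ((EtDesc.pullSh f).map φ)) ((EtDesc.pullSh (j ≫ f)).map φ)
    ((EtDesc.pullSh g).map ((EtDesc.pullSh i).map φ)) (EtDesc.pullVia j f (j ≫ f) rfl F)
    (EtDesc.pullVia j f (j ≫ f) rfl G) (EtDesc.pullVia g i (j ≫ f) w.symm F) (EtDesc.pullVia g i (j ≫ f) w.symm G)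
    (pullVia_naturality j f (j ≫ f) rfl φ) (pullVia_naturality g i (j ≫ f) w.symm φ)

variable {F' : EtDesc.Sh X'} {G : EtDesc.Sh Z} (α : (EtDesc.pullSh j).obj F' ⟶ (EtDesc.pullSh g).obj G)

/-- The first leg of the gluing. -/
noncomputable def pMap : (EtDesc.pushSh f).obj F' ⟶
    (EtDesc.pushSh f).obj ((EtDesc.pushSh j).obj ((EtDesc.pullSh g).obj G)) :=
  (EtDesc.pushSh f).map ((EtDesc.adjSh j).homEquiv _ _ α)

/-- The second leg of the gluing. -/
noncomputable def qMap (G : EtDesc.Sh Z) : (EtDesc.pushSh i).obj G ⟶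
    (EtDesc.pushSh f).obj ((EtDesc.pushSh j).obj ((EtDesc.pullSh g).obj G)) :=
  (EtDesc.adjSh f).homEquiv _ _ ((EtDesc.adjSh j).homEquiv _ _
    ((θ f i j g w ((EtDesc.pushSh i).obj G)).hom ≫ (EtDesc.pullSh g).map ((EtDesc.adjSh i).counit.app G)))

theorem comp_eq_iff {F : EtDesc.Sh X} (h₁ : F ⟶ (EtDesc.pushSh f).obj F') (h₂ : F ⟶ (EtDesc.pushSh i).obj G) :
    h₁ ≫ pMap f j g α = h₂ ≫ qMap f i j g w G ↔
      (EtDesc.pullSh j).map (((EtDesc.adjSh f).homEquiv _ _).symm h₁) ≫ α =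
        (θ f i j g w F).hom ≫ (EtDesc.pullSh g).map (((EtDesc.adjSh i).homEquiv _ _).symm h₂) := by
  obtain ⟨b, rfl⟩ := ((EtDesc.adjSh f).homEquiv _ _).surjective h₁
  rw [Equiv.symm_apply_apply]
  unfold pMap qMap
  rw [← Adjunction.homEquiv_naturality_right, ← Adjunction.homEquiv_naturality_left (EtDesc.adjSh f)]
  rw [((EtDesc.adjSh f).homEquiv _ _).apply_eq_iff_eq,
    ← Adjunction.homEquiv_naturality_left (EtDesc.adjSh j), ← Adjunction.homEquiv_naturality_left (EtDesc.adjSh j),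
    ((EtDesc.adjSh j).homEquiv _ _).apply_eq_iff_eq,
    Adjunction.homEquiv_counit (EtDesc.adjSh i), Functor.map_comp]
  have hn := θ_naturality f i j g w h₂
  rw [← Category.assoc, ← Category.assoc]
  exact (Eq.congr_right (congrArg (· ≫ _) hn))

/-- The glued sheaf. -/
noncomputable abbrev glue (G : EtDesc.Sh Z) (α : (EtDesc.pullSh j).obj F' ⟶ (EtDesc.pullSh g).obj G) : EtDesc.Sh X :=
  pullback (pMap f j g α) (qMap f i j g w G)

/-- The comparison on `X'`. -/
noncomputable abbrev βMap : (EtDesc.pullSh f).obj (glue f i j g w G α) ⟶ F' :=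
  ((EtDesc.adjSh f).homEquiv _ _).symm (pullback.fst _ _)

/-- The comparison on `Z`. -/
noncomputable abbrev γMap : (EtDesc.pullSh i).obj (glue f i j g w G α) ⟶ G :=
  ((EtDesc.adjSh i).homEquiv _ _).symm (pullback.snd _ _)

theorem glue_cond : (EtDesc.pullSh j).map (βMap f i j g w α) ≫ α =
    (θ f i j g w _).hom ≫ (EtDesc.pullSh g).map (γMap f i j g w α) :=
  (comp_eq_iff f i j g w α _ _).1 pullback.condition

theorem baseChange0Sh_naturality {S S' T T' : Scheme.{u}} (f : T ⟶ S) (b : S' ⟶ S) (f' : T' ⟶ S') (b' : T' ⟶ T)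
    (h : b' ≫ f = f' ≫ b) {A B : EtDesc.Sh T} (φ : A ⟶ B) :
    (EtDesc.pullSh b).map ((EtDesc.pushSh f).map φ) ≫ EtBC.baseChange0Sh f b f' b' h B =
      EtBC.baseChange0Sh f b f' b' h A ≫ (EtDesc.pushSh f').map ((EtDesc.pullSh b').map φ) := by
  unfold EtBC.baseChange0Sh
  rw [← Adjunction.homEquiv_naturality_left_symm, ← Adjunction.homEquiv_naturality_right_symm]
  refine congrArg _ ?_
  rw [← Functor.map_comp_assoc, show φ ≫ (EtDesc.adjSh b').unit.app B =
      (EtDesc.adjSh b').unit.app A ≫ (EtDesc.pushSh b').map ((EtDesc.pullSh b').map φ) from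
    (EtDesc.adjSh b').unit.naturality φ, Functor.map_comp]
  simp only [Category.assoc]
  refine congrArg ((EtDesc.pushSh f).map ((EtDesc.adjSh b').unit.app A) ≫ ·) ?_
  refine ((EtDesc.pushCompSh f b').hom.naturality_assoc _ _).trans (congrArg (_ ≫ ·) ?_)
  refine ((EtBC.pushCongrSh h).hom.naturality_assoc _ _).trans (congrArg (_ ≫ ·) ?_)
  exact (EtDesc.pushCompSh b f').inv.naturality _

section Main

variable [IsProper f] [IsClosedImmersion i] [IsClosedImmersion j] (u : U ⟶ X) [IsOpenImmersion u]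
  (hU : Set.range u = (Set.range i)ᶜ) (hf : IsIso (pullback.snd f u)) (c : IsPullback j g f i)

include c in
theorem isIso_γMap [IsIso α] : IsIso (γMap f i j g c.w α) := by
  haveI := isIso_counitSh_of_liftsEtaleUniv (liftsEtaleUniv_of_isImmersion j) ((EtDesc.pullSh g).obj G)
  haveI := isIso_counitSh_of_liftsEtaleUniv (liftsEtaleUniv_of_isImmersion i) G
  let φ := (EtDesc.adjSh j).homEquiv _ _ α
  haveI : IsIso ((EtDesc.pullSh j).map φ) := by
    have h : (EtDesc.pullSh j).map φ ≫ (EtDesc.adjSh j).counit.app _ = α :=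
      (Adjunction.homEquiv_counit (EtDesc.adjSh j) _ _ φ).symm.trans (Equiv.symm_apply_apply _ _)
    exact IsIso.of_isIso_fac_right h
  haveI := H11PBCSet.isIso_baseChange0Sh f i g j c F'
  haveI := H11PBCSet.isIso_baseChange0Sh f i g j c ((EtDesc.pushSh j).obj ((EtDesc.pullSh g).obj G))
  haveI : IsIso ((EtDesc.pullSh i).map (pMap f j g α)) :=
    IsIso.of_isIso_fac_right (h := _) (baseChange0Sh_naturality f i g j c.w φ)
  haveI : IsIso ((EtDesc.pullSh i).map (pullback.snd (pMap f j g α) (qMap f i j g c.w G))) := by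
    refine isIso_of_stalkSh _ fun z => ⟨_, _, SeparableClosure.isSepClosed _, geomPt z, geomPt_base z, ?_⟩
    refine (bij_pull_iff _ i _).2 ((isIso_iff_bijective _).1 ?_)
    haveI : IsIso ((Scheme.pointSmallEtale (geomPt z ≫ i)).sheafFiber.map (pMap f j g α)) :=
      (isIso_iff_bijective _).2 ((bij_pull_iff _ i _).1 (bij_of_isIso _ _))
    exact ((IsPullback.of_hasPullback (pMap f j g α) (qMap f i j g c.w G)).map
      (Scheme.pointSmallEtale (geomPt z ≫ i)).sheafFiber).isIso_snd_of_isIso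
  show IsIso (((EtDesc.adjSh i).homEquiv _ _).symm _)
  rw [Adjunction.homEquiv_counit]
  infer_instance

include hU hf in
theorem stalk_fst_bijective (x' : ↥(pullback f u)) :
    Function.Bijective ((Scheme.pointSmallEtale (geomPt x' ≫ pullback.fst f u ≫ f)).sheafFiber.map
      (pullback.fst (pMap f j g α) (qMap f i j g w G))) := by
  haveI := hf
  haveI : IsClosedImmersion i := ‹_›
  let ζ := geomPt x'
  have hi : IsClosed (Set.range i.base) := i.isClosedEmbedding.isClosed_range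
  have hξ : (ζ ≫ pullback.fst f u ≫ f).base default ∉ Set.range i.base := by
    rw [pullback.condition, Scheme.Hom.comp_apply, geomPt_base, Scheme.Hom.comp_apply]
    have : u.base ((pullback.snd f u).base x') ∈ Set.range u.base := ⟨_, rfl⟩
    rw [hU] at this
    exact this
  have hξ' : (ζ ≫ pullback.fst f u).base default ∉ Set.range j.base := by
    rintro ⟨e, he⟩
    refine hξ ⟨g.base e, ?_⟩
    rw [← Scheme.Hom.comp_apply, ← w, Scheme.Hom.comp_apply, he, ← Scheme.Hom.comp_apply, Category.assoc]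
  have hs := subsingleton_stalkSh_push i hi G _ hξ
  have hn := nonempty_stalkSh_push i hi G _ hξ
  let K := (EtDesc.pushSh f).obj ((EtDesc.pushSh j).obj ((EtDesc.pullSh g).obj G))
  have hK : Subsingleton ((Scheme.pointSmallEtale (ζ ≫ pullback.fst f u ≫ f)).sheafFiber.obj K) ∧
      Nonempty ((Scheme.pointSmallEtale (ζ ≫ pullback.fst f u ≫ f)).sheafFiber.obj K) := by
    haveI hε := isIso_map_counit f u (pullback.snd f u) (pullback.fst f u) (IsPullback.of_hasPullback f u)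
      ((EtDesc.pushSh j).obj ((EtDesc.pullSh g).obj G))
    have e1 := ((stalkPullShIso (pullback.fst f u) ζ).app ((EtDesc.pullSh f).obj K)).symm ≪≫
      (Scheme.pointSmallEtale ζ).sheafFiber.mapIso (asIso ((EtDesc.pullSh (pullback.fst f u)).map
        ((EtDesc.adjSh f).counit.app ((EtDesc.pushSh j).obj ((EtDesc.pullSh g).obj G))))) ≪≫
      (stalkPullShIso (pullback.fst f u) ζ).app ((EtDesc.pushSh j).obj ((EtDesc.pullSh g).obj G))
    have e2 : (Scheme.pointSmallEtale (ζ ≫ pullback.fst f u ≫ f)).sheafFiber.obj K ≅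
        (Scheme.pointSmallEtale (ζ ≫ pullback.fst f u)).sheafFiber.obj ((EtDesc.pushSh j).obj ((EtDesc.pullSh g).obj G)) :=
      (eqToIso (by rw [Category.assoc])) ≪≫
        ((stalkPullShIso f (ζ ≫ pullback.fst f u)).app K).symm ≪≫ e1
    have hjr : IsClosed (Set.range j.base) := j.isClosedEmbedding.isClosed_range
    have := subsingleton_stalkSh_push j hjr ((EtDesc.pullSh g).obj G) _ hξ'
    exact ⟨e2.toEquiv.subsingleton, (nonempty_stalkSh_push j hjr _ _ hξ').map e2.inv⟩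
  haveI : IsIso ((Scheme.pointSmallEtale (ζ ≫ pullback.fst f u ≫ f)).sheafFiber.map (qMap f i j g w G)) :=
    (isIso_iff_bijective _).2 ⟨fun a b _ => hs.elim a b, fun b => ⟨hn.some, hK.1.elim _ _⟩⟩
  exact (isIso_iff_bijective _).1 ((IsPullback.of_hasPullback (pMap f j g α) (qMap f i j g w G)).map
      (Scheme.pointSmallEtale (ζ ≫ pullback.fst f u ≫ f)).sheafFiber).isIso_fst_of_isIso

include hU hf c in
theorem isIso_βMap [IsIso α] : IsIso (βMap f i j g c.w α) := by
  haveI := hf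
  haveI := isIso_γMap f i j g (G := G) α c
  haveI : IsIso ((EtDesc.pullSh j).map (βMap f i j g c.w α)) := by
    have h := glue_cond f i j g c.w α
    haveI : IsIso ((θ f i j g c.w (glue f i j g c.w G α)).hom ≫ (EtDesc.pullSh g).map (γMap f i j g c.w α)) := inferInstance
    rw [← h] at this
    exact IsIso.of_isIso_comp_right _ α
  refine isIso_of_stalkSh _ fun x' => ?_
  by_cases hx : f.base x' ∈ Set.range i.base
  · obtain ⟨z, hz⟩ := hx
    obtain ⟨e, he, -⟩ := Scheme.exists_preimage_of_isPullback c x' z hz.symm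
    refine ⟨_, _, SeparableClosure.isSepClosed _, geomPt e ≫ j, by rw [geomPt_comp_base]; exact he, ?_⟩
    exact (bij_pull_iff _ j _).1 (bij_of_isIso _ _)
  · have hxu : f.base x' ∈ Set.range u.base := hU ▸ hx
    obtain ⟨y, hy⟩ := hxu
    obtain ⟨p, hp, -⟩ := Scheme.exists_preimage_of_isPullback (IsPullback.of_hasPullback f u) x' y hy.symm
    refine ⟨_, _, SeparableClosure.isSepClosed _, geomPt p ≫ pullback.fst f u,
      by rw [geomPt_comp_base]; exact hp, ?_⟩
    haveI := isIso_map_counit f u (pullback.snd f u) (pullback.fst f u) (IsPullback.of_hasPullback f u) F'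
    have h1 := (bij_pull_iff _ (pullback.fst f u) (geomPt p)).1
      (bij_of_isIso ((EtDesc.pullSh (pullback.fst f u)).map ((EtDesc.adjSh f).counit.app F')) _)
    have h2 := stalk_fst_bijective f i j g c.w α u hU hf p
    rw [← Category.assoc] at h2
    have h3 := (bij_pull_iff _ f _).2 h2
    show Function.Bijective ((Scheme.pointSmallEtale _).sheafFiber.map (((EtDesc.adjSh f).homEquiv _ _).symm _))
    rw [Adjunction.homEquiv_counit, Functor.map_comp]
    exact h1.comp h3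

include hU hf c in
theorem exists_point (x : X) : (∃ z, i.base z = x) ∨ ∃ p : ↥(pullback f u), f.base ((pullback.fst f u).base p) = x := by
  haveI := hf
  by_cases hx : x ∈ Set.range i.base
  · exact Or.inl hx
  · have hxu : x ∈ Set.range u.base := hU ▸ hx
    obtain ⟨y, rfl⟩ := hxu
    refine Or.inr ⟨(inv (pullback.snd f u)).base y, ?_⟩
    rw [← Scheme.Hom.comp_apply, ← Scheme.Hom.comp_apply, pullback.condition, IsIso.inv_hom_id_assoc]

include hU hf c in
theorem isIso_of_pullbacks {F₁ F₂ : EtDesc.Sh X} (φ : F₁ ⟶ F₂) [IsIso ((EtDesc.pullSh f).map φ)]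
    [IsIso ((EtDesc.pullSh i).map φ)] : IsIso φ := by
  refine isIso_of_stalkSh _ fun x => ?_
  rcases exists_point f i j g u hU hf c x with ⟨z, rfl⟩ | ⟨p, rfl⟩
  · exact ⟨_, _, SeparableClosure.isSepClosed _, geomPt z ≫ i, geomPt_comp_base i z,
      (bij_pull_iff _ i _).1 (bij_of_isIso _ _)⟩
  · exact ⟨_, _, SeparableClosure.isSepClosed _, geomPt ((pullback.fst f u).base p) ≫ f, geomPt_comp_base f _,
      (bij_pull_iff _ f _).1 (bij_of_isIso _ _)⟩

include hU hf c in
/-- A sheaf is the gluing of its two inverse images. -/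
theorem exists_hom {F₁ F₂ : EtDesc.Sh X} (a : (EtDesc.pullSh f).obj F₁ ⟶ (EtDesc.pullSh f).obj F₂)
    (b : (EtDesc.pullSh i).obj F₁ ⟶ (EtDesc.pullSh i).obj F₂)
    (h : (EtDesc.pullSh j).map a ≫ (θ f i j g c.w F₂).hom = (θ f i j g c.w F₁).hom ≫ (EtDesc.pullSh g).map b) :
    ∃! φ : F₁ ⟶ F₂, (EtDesc.pullSh f).map φ = a ∧ (EtDesc.pullSh i).map φ = b := by
  let α := (θ f i j g c.w F₂).hom
  haveI := isIso_βMap f i j g α u hU hf c
  haveI := isIso_γMap f i j g α c
  have hcan : ((EtDesc.adjSh f).homEquiv _ _ (𝟙 _)) ≫ pMap f j g α =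
      ((EtDesc.adjSh i).homEquiv F₂ _ (𝟙 _)) ≫ qMap f i j g c.w _ :=
    (comp_eq_iff f i j g c.w α _ _).2 (by simp [α])
  let can : F₂ ⟶ glue f i j g c.w _ α := pullback.lift _ _ hcan
  have hl : ((EtDesc.adjSh f).homEquiv _ _ a) ≫ pMap f j g α =
      ((EtDesc.adjSh i).homEquiv F₁ _ b) ≫ qMap f i j g c.w _ :=
    (comp_eq_iff f i j g c.w α _ _).2 (by simpa [α] using h)
  have hf' : ∀ {F : EtDesc.Sh X} (l : F ⟶ glue f i j g c.w _ α),
      (EtDesc.pullSh f).map l ≫ βMap f i j g c.w α = ((EtDesc.adjSh f).homEquiv _ _).symm (l ≫ pullback.fst _ _) :=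
    fun l => (Adjunction.homEquiv_naturality_left_symm (EtDesc.adjSh f) l _).symm
  have hi' : ∀ {F : EtDesc.Sh X} (l : F ⟶ glue f i j g c.w _ α),
      (EtDesc.pullSh i).map l ≫ γMap f i j g c.w α = ((EtDesc.adjSh i).homEquiv _ _).symm (l ≫ pullback.snd _ _) :=
    fun l => (Adjunction.homEquiv_naturality_left_symm (EtDesc.adjSh i) l _).symm
  have h1 : (EtDesc.pullSh f).map can ≫ βMap f i j g c.w α = 𝟙 _ := by
    rw [hf', pullback.lift_fst, Equiv.symm_apply_apply]
  have h2 : (EtDesc.pullSh i).map can ≫ γMap f i j g c.w α = 𝟙 _ := by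
    rw [hi', pullback.lift_snd, Equiv.symm_apply_apply]
  haveI : IsIso ((EtDesc.pullSh f).map can) := IsIso.of_isIso_fac_right h1
  haveI : IsIso ((EtDesc.pullSh i).map can) := IsIso.of_isIso_fac_right h2
  haveI := isIso_of_pullbacks f i j g u hU hf c can
  refine ⟨pullback.lift _ _ hl ≫ inv can, ⟨?_, ?_⟩, fun ψ hψ => ?_⟩
  · rw [Functor.map_comp, Functor.map_inv, IsIso.comp_inv_eq, ← cancel_mono (βMap f i j g c.w α), hf',
      pullback.lift_fst, Equiv.symm_apply_apply, Category.assoc, h1, Category.comp_id]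
  · rw [Functor.map_comp, Functor.map_inv, IsIso.comp_inv_eq, ← cancel_mono (γMap f i j g c.w α), hi',
      pullback.lift_snd, Equiv.symm_apply_apply, Category.assoc, h2, Category.comp_id]
  · rw [IsIso.eq_comp_inv]
    apply pullback.hom_ext
    · apply ((EtDesc.adjSh f).homEquiv _ _).symm.injective
      rw [pullback.lift_fst, Equiv.symm_apply_apply, Category.assoc, Adjunction.homEquiv_naturality_left_symm,
        pullback.lift_fst, Equiv.symm_apply_apply, Category.comp_id, hψ.1]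
    · apply ((EtDesc.adjSh i).homEquiv _ _).symm.injective
      rw [pullback.lift_snd, Equiv.symm_apply_apply, Category.assoc, Adjunction.homEquiv_naturality_left_symm,
        pullback.lift_snd, Equiv.symm_apply_apply, Category.comp_id, hψ.2]

end Main

end Groth.Agent.H15Site.ModSquare
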